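import Cfsg.Agent.Lib.CosetEnum.OutSplit

/-!
Checks for centralizers of elements in a group generated by a class of involutions seen on the cosets
of the centralizer of one of them.
-/

set_option autoImplicit false

namespace CfsgLib.TransCent

open CfsgLib.CosetEnum

variable (C : Cert)

/-- none of the next `fuel` images of `y` is below `x` -/
noncomputable def minOK (v : List ℕ) (x : ℕ) (fuel : ℕ) : ℕ → Bool :=
  Nat.rec (fun _ => true) (fun _ ih y =>
    strict (C.run y (C.revInv v)) fun z => pick (ltB z x) false (ih z)) fuel

/-- the orbits of the listed points -/
noncomputable def orbitsOf (v : List ℕ) (q : ℕ) (ys : List ℕ) : List ℕ :=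
  ys.flatMap fun y => C.shifts v q y

/-- a least coset of an orbit that may be the image of `b` is in one of the listed orbits -/
noncomputable def scanOK (m : ℕ) (v : List ℕ) (q n b : ℕ) (d : List (ℕ × ℕ)) (ys : List ℕ) (x : ℕ) : Bool :=
  strict x fun x => pick (minOK C v x (q - 1) x)
    (pick (band (C.pairsOK m d b x) (C.shiftOK m v n b x))
      ((orbitsOf C v q ys).any fun y => Nat.beq x y) true) true

/-- the word of the conjugate of `zw` attached to a coset -/
noncomputable def dWord (zw : List ℕ) (x : ℕ) : List ℕ :=
  C.revInv (C.repWord x) ++ (zw ++ C.repWord x)

/-- apply in turn, last first, the conjugates attached to the points with the listed indices -/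
noncomputable def act (zw pts : List ℕ) : List ℕ → ℕ → ℕ
  | [], y => y
  | i :: w, y => C.run (act zw pts w y) (C.revInv (dWord C zw (nth pts i 0)))

/-- adjoin the images of known cosets under known conjugates -/
noncomputable def grow (zw : List ℕ) : List (ℕ × ℕ) → List ℕ → List ℕ
  | [], known => known
  | (i, j) :: st, known =>
    grow zw st (known ++ [C.run (nth known j 0) (C.revInv (dWord C zw (nth known i 0)))])

/-- the indices used by a derivation refer to known cosets -/
noncomputable def idxOK : List (ℕ × ℕ) → ℕ → Bool
  | [], _ => true
  | (i, j) :: st, len => Nat.blt i len && Nat.blt j len && idxOK st (len + 1)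

/-- the targets are derived from the known cosets -/
noncomputable def growOK (zw targets known : List ℕ) (st : List (ℕ × ℕ)) : Bool :=
  idxOK st known.length && (known.all fun x => Nat.blt x C.N) &&
    targets.all fun x => (grow C zw st known).any fun y => Nat.beq x y

/-- exactly the listed cosets are fixed -/
noncomputable def fixedAt (v : List ℕ) (pts : List ℕ) (x : ℕ) : Bool :=
  strict x fun x => Nat.beq (C.run x (C.revInv v)) x == pts.any fun y => Nat.beq x y

/-- the pattern of `chain` at `k` is realised at `y` only if a listed word takes `chain[k]` there -/
noncomputable def stepOK (m : ℕ) (zw pts chain : List ℕ) (k : ℕ) (ws : List (List ℕ)) : Bool :=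
  pts.all fun y =>
    ((chain.take k).any fun c => Nat.beq y c) ||
    ((List.range k).any fun j => !(C.relB m (nth chain j 0) y == C.relB m (nth chain j 0) (nth chain k 0))) ||
    ws.any fun w => (w.all fun i => Nat.blt i pts.length) &&
      (List.range k).all (fun j => Nat.beq (act C zw pts w (nth chain j 0)) (nth chain j 0)) &&
      Nat.beq (act C zw pts w (nth chain k 0)) y

end CfsgLib.TransCent
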