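import Cfsg.Agent.Lib.TransCent.Fixed
import Cfsg.Agent.Lib.Coxeter.TypeA

/-!
A copy of the symmetric group spanned by a chain of conjugates, and reduction of elements permuting
its transpositions.
-/

set_option autoImplicit false
set_option linter.style.haveILetI false

namespace CfsgLib.TransCent

open CfsgLib.CosetEnum

/-- image of a letter under a transposition -/
def swapN (a b z : ℕ) : ℕ := if z = a then b else if z = b then a else z

/-- the pairs of the derived cosets -/
def growPairs : List (ℕ × ℕ) → List (ℕ × ℕ) → List (ℕ × ℕ)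
  | [], known => known
  | (i, j) :: st, known =>
    growPairs st (known ++ [(swapN (known.getD i (0, 1)).1 (known.getD i (0, 1)).2 (known.getD j (0, 1)).1,
      swapN (known.getD i (0, 1)).1 (known.getD i (0, 1)).2 (known.getD j (0, 1)).2)])

/-- the pairs of the chain -/
def chainPairs (n : ℕ) : List (ℕ × ℕ) := (List.range n).map fun k => (k, k + 1)

/-- all pairs of letters below `n + 1` are derived -/
def pairsCover (n : ℕ) (st : List (ℕ × ℕ)) : Bool :=
  (List.range (n + 1)).all fun a => (List.range (n + 1)).all fun b =>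
    a == b || (growPairs st (chainPairs n)).contains (a, b) ||
      (growPairs st (chainPairs n)).contains (b, a)

/-- the relations of type A hold on the chain -/
noncomputable def chainRelOK (C : Cert) (m n : ℕ) (chain : List ℕ) : Bool :=
  Nat.beq chain.length n && (chain.all fun x => Nat.blt x C.N) &&
    (List.range n).all fun i => (List.range n).all fun j =>
      Nat.beq i j || (C.relB m (nth chain i 0) (nth chain j 0) ==
        !(Nat.beq (j + 1) i || Nat.beq (i + 1) j))

variable {G : Type*} [Group G] {C : Cert} {H : Subgroup G} {gen : ℕ → G}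
  {ρ : G →* Equiv.Perm (Fin C.N)} {a : G} {m : ℕ} {zw : List ℕ}

theorem swapN_perm {n : ℕ} (a b z : Fin n) : (Equiv.swap a b z : ℕ) = swapN a b z := by
  unfold swapN
  rw [Equiv.swap_apply_def]
  simp only [Fin.val_inj]
  split_ifs <;> rfl

/-- A chain with the relations of type A spans a symmetric group whose transpositions are the
conjugates of the derived cosets. -/
theorem Env.exists_sym (e : Env C H gen ρ a m zw) (ha : a * a = 1)
    (h3 : ∀ x y : Fin C.N, ¬ Commute (conjAt C gen a x) (conjAt C gen a y) →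
      (conjAt C gen a x * conjAt C gen a y) ^ 3 = 1)
    {n : ℕ} {chain : List ℕ} {st : List (ℕ × ℕ)} (hrel : chainRelOK C m n chain = true)
    (hidx : idxOK st n = true) (hcov : pairsCover n st = true)
    (hnd : (grow C zw st chain).Nodup) (hn : 2 ≤ n) :
    ∃ φ : Equiv.Perm (Fin (n + 1)) →* G, Function.Injective φ ∧
      φ.range = Subgroup.closure {d | ∃ x : Fin C.N, (x : ℕ) ∈ grow C zw st chain ∧ conjAt C gen a x = d} ∧
      ∀ v : G, (∀ y ∈ φ.range, Commute v y) → v ∈ φ.range → v = 1 := by
  classical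
  simp only [chainRelOK, Bool.and_eq_true, List.all_eq_true, Nat.blt_eq, List.mem_range,
    Bool.or_eq_true, beq_iff_eq] at hrel
  obtain ⟨⟨hlen, hN⟩, hR⟩ := hrel
  have hlen := Nat.eq_of_beq_eq_true hlen
  have hpt : ∀ i : Fin n, nth chain i 0 < C.N := fun i => hN _ (nth_mem (by omega))
  set s : Fin n → G := fun i => conjAt C gen a (nth chain i 0)
  have hsq : ∀ x : ℕ, conjAt C gen a x * conjAt C gen a x = 1 := fun x => by
    simp only [conjAt]
    calc (coreRep C gen x)⁻¹ * a * coreRep C gen x * ((coreRep C gen x)⁻¹ * a * coreRep C gen x)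
        = (coreRep C gen x)⁻¹ * (a * a) * coreRep C gen x := by group
      _ = 1 := by rw [ha, mul_one, inv_mul_cancel]
  obtain ⟨cs, hcs⟩ := CfsgLib.CoxeterA.exists_system n
  have hl : (CoxeterMatrix.A n).IsLiftable s := by
    intro i j
    have hA : (CoxeterMatrix.A n) i j = if i = j then 1
        else (if (j : ℕ) + 1 = i ∨ (i : ℕ) + 1 = j then 3 else 2) := rfl
    rw [hA]
    by_cases h1 : i = j
    · subst h1; simp [s, hsq]
    rw [if_neg h1]
    have hr := (hR i i.isLt j j.isLt).resolve_left fun h => h1 (Fin.ext (Nat.eq_of_beq_eq_true h))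
    have hc := e.graph.commute_iff e.rep ⟨_, hpt i⟩ ⟨_, hpt j⟩
    by_cases h2 : (j : ℕ) + 1 = i ∨ (i : ℕ) + 1 = j
    · rw [if_pos h2]
      refine h3 ⟨_, hpt i⟩ ⟨_, hpt j⟩ fun hcm => ?_
      rw [hr] at hc
      have := hc.mpr hcm
      simp only [Bool.not_eq_true', Bool.or_eq_false_iff] at this
      rcases h2 with h2 | h2
      · rw [show Nat.beq ((j : ℕ) + 1) i = true by rw [h2]; exact Nat.beq_refl _] at this; simp at this
      · rw [show Nat.beq ((i : ℕ) + 1) j = true by rw [h2]; exact Nat.beq_refl _] at this; simp at this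
    · rw [if_neg h2, pow_two]
      have hcm : Commute (s i) (s j) := hc.mp (by
        rw [hr]
        push Not at h2
        simp only [Bool.not_eq_true', Bool.or_eq_false_iff]
        exact ⟨Bool.eq_false_iff.mpr fun h => h2.1 (Nat.eq_of_beq_eq_true h),
          Bool.eq_false_iff.mpr fun h => h2.2 (Nat.eq_of_beq_eq_true h)⟩)
      rw [hcm.symm.mul_mul_mul_comm, hsq, hsq, one_mul]
  let φ := cs.lift ⟨s, hl⟩
  have hφ : ∀ i : Fin n, φ (Equiv.swap i.castSucc i.succ) = s i := fun i => by
    rw [← hcs i]; exact CoxeterSystem.lift_apply_simple cs hl i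
  -- the derived cosets are the transpositions
  have hlook : ∀ (st : List (ℕ × ℕ)) (known : List ℕ) (kp : List (ℕ × ℕ)),
      kp.length = known.length → idxOK st known.length = true →
      (∀ k < known.length, ∃ (c d : Fin (n + 1)) (x : Fin C.N), c ≠ d ∧ kp.getD k (0, 1) = ((c : ℕ), (d : ℕ)) ∧
        (x : ℕ) = nth known k 0 ∧ φ (Equiv.swap c d) = conjAt C gen a x) →
      (growPairs st kp).length = (grow C zw st known).length ∧
      ∀ k < (grow C zw st known).length, ∃ (c d : Fin (n + 1)) (x : Fin C.N), c ≠ d ∧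
        (growPairs st kp).getD k (0, 1) = ((c : ℕ), (d : ℕ)) ∧
        (x : ℕ) = nth (grow C zw st known) k 0 ∧ φ (Equiv.swap c d) = conjAt C gen a x := by
    intro st
    induction st with
    | nil => exact fun known kp h1 _ h2 => ⟨h1, h2⟩
    | cons p st ih =>
      obtain ⟨i, j⟩ := p
      intro known kp h1 hi h2
      simp only [idxOK, Bool.and_eq_true, Nat.blt_eq] at hi
      obtain ⟨⟨hil, hjl⟩, hrest⟩ := hi
      rw [show grow C zw ((i, j) :: st) known = grow C zw st
        (known ++ [C.run (nth known j 0) (C.revInv (dWord C zw (nth known i 0)))]) from rfl,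
        show growPairs ((i, j) :: st) kp = growPairs st (kp ++ [(swapN (kp.getD i (0, 1)).1
          (kp.getD i (0, 1)).2 (kp.getD j (0, 1)).1, swapN (kp.getD i (0, 1)).1 (kp.getD i (0, 1)).2
          (kp.getD j (0, 1)).2)]) from rfl]
      refine ih _ _ (by simp [h1]) (by simpa using hrest) fun k hk => ?_
      rw [List.length_append, List.length_singleton] at hk
      by_cases hkl : k < known.length
      · obtain ⟨c, d, x, hcd, e1, e2, e3⟩ := h2 k hkl
        refine ⟨c, d, x, hcd, ?_, ?_, e3⟩
        · rw [List.getD_append _ _ _ _ (by omega)]; exact e1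
        · rw [nth_eq, List.getD_append _ _ _ _ hkl, ← nth_eq]; exact e2
      · obtain rfl : k = known.length := by omega
        obtain ⟨c, d, x, hcd, e1, e2, e3⟩ := h2 i hil
        obtain ⟨c', d', y, hcd', f1, f2, f3⟩ := h2 j hjl
        refine ⟨Equiv.swap c d c', Equiv.swap c d d', ρ (conjAt C gen a x) y,
          fun h => hcd' ((Equiv.swap c d).injective h), ?_, ?_, ?_⟩
        · rw [List.getD_append_right _ _ _ _ (by omega), h1, Nat.sub_self, List.getD_cons_zero, e1, f1]
          simp [swapN_perm]
        · rw [nth_eq, List.getD_append_right _ _ _ _ le_rfl, Nat.sub_self, List.getD_cons_zero,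
            ← e2, ← f2, e.run_dWord]
        · rw [← e.setup.conjAt_smul e.graph.comm, ← e3, ← f3, ← map_inv, ← map_mul, ← map_mul,
            Equiv.swap_apply_apply]
  obtain ⟨hlp, hent⟩ := hlook st chain (chainPairs n) (by simp [chainPairs, hlen]) (by rwa [hlen])
    fun k hk => by
      refine ⟨(⟨k, by omega⟩ : Fin n).castSucc, (⟨k, by omega⟩ : Fin n).succ, ⟨_, hpt ⟨k, by omega⟩⟩,
        by simp [Fin.ext_iff], ?_, rfl, hφ _⟩
      rw [List.getD_eq_getElem _ _ (by simp [chainPairs]; omega)]
      simp [chainPairs]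
  have hall : ∀ c d : Fin (n + 1), c ≠ d → ∃ k < (grow C zw st chain).length,
      ∃ x : Fin C.N, (x : ℕ) = nth (grow C zw st chain) k 0 ∧ φ (Equiv.swap c d) = conjAt C gen a x ∧
      ((growPairs st (chainPairs n)).getD k (0, 1) = ((c : ℕ), (d : ℕ)) ∨
        (growPairs st (chainPairs n)).getD k (0, 1) = ((d : ℕ), (c : ℕ))) := by
    intro c d hcd
    simp only [pairsCover, List.all_eq_true, List.mem_range, Bool.or_eq_true, beq_iff_eq,
      List.contains_iff_mem] at hcov
    have hk : ((c : ℕ), (d : ℕ)) ∈ growPairs st (chainPairs n) ∨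
        ((d : ℕ), (c : ℕ)) ∈ growPairs st (chainPairs n) := by
      rcases hcov c c.isLt d d.isLt with (h | h) | h
      · exact absurd (Fin.ext h) hcd
      · exact Or.inl h
      · exact Or.inr h
    rcases hk with hk | hk <;> obtain ⟨k, hk, hke⟩ := List.getElem_of_mem hk <;>
      obtain ⟨c', d', x, -, e1, e2, e3⟩ := hent k (hlp ▸ hk) <;>
      refine ⟨k, hlp ▸ hk, x, e2, ?_, ?_⟩ <;>
      rw [List.getD_eq_getElem _ _ hk, hke] at e1 <;>
      simp only [Prod.mk.injEq, Fin.val_inj] at e1 <;> obtain ⟨rfl, rfl⟩ := e1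
    · exact e3
    · exact Or.inl (by rw [List.getD_eq_getElem _ _ hk, hke])
    · rw [Equiv.swap_comm]; exact e3
    · exact Or.inr (by rw [List.getD_eq_getElem _ _ hk, hke])
  -- a permutation with the same image as the identity fixes every transposition
  have hker : ∀ σ : Equiv.Perm (Fin (n + 1)),
      (∀ t, φ (σ * t * σ⁻¹) = φ t) → σ = 1 := by
    intro σ hσ
    by_contra hne
    obtain ⟨c, hc⟩ : ∃ c, σ c ≠ c := not_forall.mp fun h => hne (Equiv.ext h)
    obtain ⟨d, hd⟩ : ∃ d : Fin (n + 1), d ∉ ({c, σ c} : Finset (Fin (n + 1))) := by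
      by_contra! h
      have h1 : (Finset.univ : Finset (Fin (n + 1))).card ≤ 2 :=
        (Finset.card_le_card fun x _ => h x).trans Finset.card_le_two
      simp at h1
      omega
    simp only [Finset.mem_insert, Finset.mem_singleton, not_or] at hd
    have hcd : σ c ≠ σ d := σ.injective.ne (Ne.symm hd.1)
    obtain ⟨k, hk, x, ex, hx, hp⟩ := hall (σ c) (σ d) hcd
    obtain ⟨l, hl, y, ey, hy, hq⟩ := hall c d (Ne.symm hd.1)
    have h := hσ (Equiv.swap c d)
    rw [← Equiv.swap_apply_apply, hx, hy] at h
    have hxy : x = y := e.graph.injective h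
    have hkl : k = l := by
      have := ex.symm.trans ((congrArg Fin.val hxy).trans ey)
      rw [nth_eq, nth_eq, List.getD_eq_getElem _ _ hk, List.getD_eq_getElem _ _ hl] at this
      exact hnd.getElem_inj_iff.mp this
    subst hkl
    rcases hp with hp | hp <;> rcases hq with hq | hq <;> rw [hp] at hq <;>
      simp only [Prod.mk.injEq, Fin.val_inj] at hq
    · exact hc hq.1
    · exact hd.2 hq.1.symm
    · exact hd.2 hq.2.symm
    · exact hc hq.2
  have hinj : Function.Injective φ := (injective_iff_map_eq_one φ).mpr fun σ hσ =>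
    hker σ fun t => by simp [hσ]
  refine ⟨φ, hinj, le_antisymm ?_ ?_, fun v hv hvr => ?_⟩
  · rw [MonoidHom.range_eq_map, ← Subgroup.closure_eq_top_of_mclosure_eq_top
      (Equiv.Perm.mclosure_swap_castSucc_succ n), MonoidHom.map_closure, Subgroup.closure_le]
    rintro _ ⟨_, ⟨i, rfl⟩, rfl⟩
    obtain ⟨k, hk, x, ex, hx, -⟩ := hall i.castSucc i.succ (by simp [Fin.ext_iff])
    exact Subgroup.subset_closure ⟨x, ex ▸ nth_mem hk, hx.symm⟩
  · rw [Subgroup.closure_le]
    rintro _ ⟨x, hx, rfl⟩
    obtain ⟨k, hk, hkx⟩ := List.getElem_of_mem hx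
    obtain ⟨c, d, y, -, -, ey, hy⟩ := hent k hk
    have : x = y := Fin.ext (by rw [ey, nth_eq, List.getD_eq_getElem _ _ hk, hkx])
    exact ⟨Equiv.swap c d, this ▸ hy⟩
  · obtain ⟨σ, rfl⟩ := hvr
    rw [hker σ fun t => ?_, map_one]
    rw [map_mul, map_mul, (hv _ ⟨t, rfl⟩).eq, map_inv, mul_inv_cancel_right]

/-- An element commuting with `v` can be moved by the group of the chain to one fixing the chain. -/
theorem Env.exists_reduce (e : Env C H gen ρ a m zw) {F chain : List ℕ} {tab : List (List (List ℕ))}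
    (hF : ∀ x ∈ F, x < C.N) (hchain : ∀ x ∈ chain, x ∈ F)
    (hstep : (List.range chain.length).all (fun k => stepOK C m zw F chain k (tab.getD k [])) = true)
    {g : G} (hperm : ∀ x : Fin C.N, (x : ℕ) ∈ F → (ρ g x : ℕ) ∈ F) {K : Subgroup G}
    (hK : ∀ x : Fin C.N, (x : ℕ) ∈ F → conjAt C gen a x ∈ K)
    (hKF : ∀ k ∈ K, ∀ x : Fin C.N, (x : ℕ) ∈ F → (ρ k x : ℕ) ∈ F) :
    ∀ i ≤ chain.length, ∃ k ∈ K, FixedList ρ (k * g) (chain.take i) := by
  intro i hi
  induction i with
  | zero => exact ⟨1, K.one_mem, by simp [FixedList]⟩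
  | succ i ih =>
    obtain ⟨k, hk, hfix⟩ := ih (by omega)
    have hiF : nth chain i 0 ∈ F := hchain _ (nth_mem hi)
    set c : Fin C.N := ⟨nth chain i 0, hF _ hiF⟩
    set g' := k * g
    have hyF : (ρ g' c : ℕ) ∈ F := by
      rw [show g' = k * g from rfl, map_mul, Equiv.Perm.mul_apply]
      exact hKF k hk _ (hperm c hiF)
    have hprev : ∀ j < i, ∃ z : Fin C.N, (z : ℕ) = nth chain j 0 ∧ ρ g' z = z := fun j hj => by
      refine hfix _ ?_
      rw [nth_eq, List.getD_eq_getElem _ _ (by omega)]
      exact List.mem_take_iff_getElem.mpr ⟨j, by omega, rfl⟩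
    simp only [List.all_eq_true, List.mem_range] at hstep
    have h := hstep i (by omega)
    simp only [stepOK, List.all_eq_true, Bool.or_eq_true, List.any_eq_true, List.mem_range,
      Bool.not_eq_true', beq_eq_false_iff_ne, Bool.and_eq_true, Nat.blt_eq] at h
    by_cases hin : ∃ x ∈ chain.take i, Nat.beq (ρ g' c : ℕ) x = true
    · obtain ⟨x, hx, hxc⟩ := hin
      obtain ⟨z, ez, hz⟩ := hfix x hx
      have : ρ g' c = z := Fin.ext ((Nat.eq_of_beq_eq_true hxc).trans ez.symm)
      rw [← hz] at this
      have hcz := (ρ g').injective this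
      refine ⟨k, hk, fun y hy => ?_⟩
      rw [List.take_succ_eq_append_getElem (by omega), List.mem_append, List.mem_singleton] at hy
      rcases hy with hy | rfl
      · exact hfix y hy
      · exact ⟨z, by rw [← hcz]; simp [c, nth_eq, List.getElem?_eq_getElem (show i < chain.length by omega)], hz⟩
    · rcases h _ hyF with (h | ⟨j, hj, hne⟩) | ⟨w, -, ⟨hw, hwfix⟩, hwc⟩
      · exact absurd h hin
      · obtain ⟨z, ez, hz⟩ := hprev j hj
        refine absurd ?_ hne
        have := e.setup.relB_smul e.rep e.graph.inv g' z c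
        rw [hz] at this
        rw [← ez]
        exact this
      · have hact : ∀ (w : List ℕ), (∀ l ∈ w, l < F.length) →
            ∃ u ∈ K, ∀ z : Fin C.N, act C zw F w z = (ρ u z : ℕ) := by
          intro w
          induction w with
          | nil => exact fun _ => ⟨1, K.one_mem, fun z => by simp [act]⟩
          | cons l w ih =>
            intro hw
            obtain ⟨u, hu, hu'⟩ := ih fun l hl => hw l (List.mem_cons_of_mem _ hl)
            have hlF := nth_mem (hw l List.mem_cons_self)
            refine ⟨conjAt C gen a (nth F l 0) * u, K.mul_mem (hK ⟨_, hF _ hlF⟩ hlF) hu, fun z => ?_⟩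
            rw [show act C zw F (l :: w) z = C.run (act C zw F w z) (C.revInv (dWord C zw (nth F l 0)))
              from rfl, hu']
            rw [show nth F l 0 = ((⟨_, hF _ hlF⟩ : Fin C.N) : ℕ) from rfl, e.run_dWord, map_mul,
              Equiv.Perm.mul_apply]
        obtain ⟨u, hu, hu'⟩ := hact w hw
        refine ⟨u⁻¹ * k, K.mul_mem (K.inv_mem hu) hk, fun y hy => ?_⟩
        have key : ∀ z : Fin C.N, act C zw F w (ρ (k * g) z : ℕ) = (ρ (k * g) z : ℕ) →
            ρ (k * g) z = z → ρ (u⁻¹ * k * g) z = z := fun z h1 h2 => by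
          rw [hu', h2] at h1
          rw [mul_assoc, map_mul, Equiv.Perm.mul_apply, h2, map_inv, Equiv.Perm.inv_eq_iff_eq]
          exact (Fin.ext h1).symm
        rw [List.take_succ_eq_append_getElem (by omega), List.mem_append, List.mem_singleton] at hy
        rcases hy with hy | rfl
        · obtain ⟨z, ez, hz⟩ := hfix y hy
          refine ⟨z, ez, key z ?_ hz⟩
          obtain ⟨j, hj, rfl⟩ := List.mem_take_iff_getElem.mp hy
          have h' := Nat.eq_of_beq_eq_true (hwfix j (by omega))
          rw [nth_eq, List.getD_eq_getElem _ _ (by omega)] at h'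
          rw [hz, ez]
          exact h'
        · refine ⟨c, by simp [c, nth_eq, List.getElem?_eq_getElem (show i < chain.length by omega)], ?_⟩
          have h' := Nat.eq_of_beq_eq_true hwc
          rw [show nth chain i 0 = (c : ℕ) from rfl, hu'] at h'
          rw [mul_assoc, map_mul, Equiv.Perm.mul_apply, map_inv, Equiv.Perm.inv_eq_iff_eq]
          exact (Fin.ext h').symm

end CfsgLib.TransCent
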