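import Cfsg.Agent.Lib.TransCent.SymHom

/-!
The centralizer of an element is generated by it and the transpositions commuting with it.
-/

set_option autoImplicit false

namespace CfsgLib.TransCent

open CfsgLib.CosetEnum

variable {G : Type*} [Group G] {C : Cert} {H : Subgroup G} {gen : ℕ → G}
  {ρ : G →* Equiv.Perm (Fin C.N)} {a : G} {m : ℕ} {zw : List ℕ}

/-- The cosets fixed by `v` are the listed ones, and an element commuting with `v` permutes them. -/
theorem Env.fixed_iff (e : Env C H gen ρ a m zw) {v : List ℕ} (hv : ∀ g ∈ v, g < C.K) {F : List ℕ}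
    (hfix : ∀ x < C.N, fixedAt C v F x = true) (x : Fin C.N) :
    (Commute (prodW gen v) (conjAt C gen a x) ↔ (x : ℕ) ∈ F) ∧
      ∀ g : G, Commute g (prodW gen v) → (x : ℕ) ∈ F → (ρ g x : ℕ) ∈ F := by
  have key : ∀ z : Fin C.N, ρ (prodW gen v) z = z ↔ (z : ℕ) ∈ F := fun z => by
    have h := hfix z z.2
    unfold fixedAt at h
    simp only [strict_eq, beq_iff_eq] at h
    rw [Fin.ext_iff, e.setup.rho_prodW hv]
    constructor
    · intro hz
      rw [show Nat.beq (C.run z (C.revInv v)) z = true by rw [hz]; exact Nat.beq_refl _, eq_comm,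
        List.any_eq_true] at h
      obtain ⟨y, hy, hxy⟩ := h
      rwa [Nat.eq_of_beq_eq_true hxy]
    · intro hz
      refine Nat.eq_of_beq_eq_true (h.trans (List.any_eq_true.mpr ⟨_, hz, Nat.beq_refl _⟩))
  refine ⟨(e.fix_iff _ x).symm.trans (key x), fun g hg hx => ?_⟩
  rw [← key, ← Equiv.Perm.mul_apply, ← map_mul, ← hg.eq, map_mul, Equiv.Perm.mul_apply, (key x).mpr hx]

/-- the class meets the centralizer of `v` in the conjugates of the fixed cosets -/
theorem Env.class_inter (e : Env C H gen ρ a m zw) {v : List ℕ} (hv : ∀ g ∈ v, g < C.K) {F : List ℕ}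
    (hfix : ∀ x < C.N, fixedAt C v F x = true) {D : Set G}
    (hD : ∀ d, d ∈ D ↔ ∃ x : Fin C.N, conjAt C gen a x = d) :
    D ∩ (Subgroup.centralizer (Subgroup.zpowers (prodW gen v) : Set G) : Set G) =
      {d | ∃ x : Fin C.N, (x : ℕ) ∈ F ∧ conjAt C gen a x = d} := by
  ext d
  rw [Set.mem_inter_iff, SetLike.mem_coe, Subgroup.zpowers_eq_closure, Subgroup.centralizer_closure,
    Subgroup.mem_centralizer_singleton_iff, hD]
  constructor
  · rintro ⟨⟨x, rfl⟩, hc⟩
    exact ⟨x, (e.fixed_iff hv hfix x).1.mp hc.symm, rfl⟩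
  · rintro ⟨x, hx, rfl⟩
    exact ⟨⟨x, rfl⟩, ((e.fixed_iff hv hfix x).1.mpr hx).eq.symm⟩

/-- An element commuting with `v` is a power of it times an element of the group of the chain. -/
theorem Env.centralizer_sym (e : Env C H gen ρ a m zw) {v : List ℕ} (hv : ∀ g ∈ v, g < C.K)
    {q n b : ℕ} (hq : 0 < q) (hpow : prodW gen v ^ q = 1) (hb : b < C.N) {chain : List ℕ}
    {st st₂ : List (ℕ × ℕ)} (hchN : ∀ x ∈ chain, x < C.N) (hidx : idxOK st chain.length = true)
    (hchain : ∀ x ∈ chain, x ∈ grow C zw st chain) {tab : List (List (List ℕ))}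
    (hfix : ∀ x < C.N, fixedAt C v (grow C zw st chain) x = true)
    (hstep : (List.range chain.length).all
      (fun k => stepOK C m zw (grow C zw st chain) chain k (tab.getD k [])) = true)
    (hscan : ∀ x < C.N,
      scanOK C m v q n b ((grow C zw st chain).map fun x => (x, x)) [b] x = true)
    {targets : List ℕ} (hgrow : growOK C zw targets (grow C zw st chain ++ C.shifts v q b) st₂ = true)
    (htar : ∀ k < C.K, ∃ x : Fin C.N, (x : ℕ) ∈ targets ∧ conjAt C gen a x = gen k)
    {K : Subgroup G}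
    (hK : K = Subgroup.closure {d | ∃ x : Fin C.N, (x : ℕ) ∈ grow C zw st chain ∧ conjAt C gen a x = d}) :
    Subgroup.centralizer (Subgroup.zpowers (prodW gen v) : Set G) = Subgroup.zpowers (prodW gen v) ⊔ K := by
  set V := prodW gen v
  set F := grow C zw st chain
  have hFN : ∀ x ∈ F, x < C.N := fun x hx => by
    obtain ⟨z, rfl, -⟩ := e.grow_induction (P := fun _ => True) (fun _ _ _ _ => trivial) st chain hidx
      (fun y hy => ⟨⟨y, hchN y hy⟩, rfl, trivial⟩) x hx
    exact z.2
  have hKc : ∀ k ∈ K, Commute k V := by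
    intro k hk
    rw [hK] at hk
    induction hk using Subgroup.closure_induction with
    | mem d hd =>
      obtain ⟨x, hx, rfl⟩ := hd
      exact ((e.fixed_iff hv hfix x).1.mpr hx).symm
    | one => exact Commute.one_left V
    | mul _ _ _ _ h1 h2 => exact h1.mul_left h2
    | inv _ _ h1 => exact h1.inv_left
  rw [Subgroup.zpowers_eq_closure, Subgroup.centralizer_closure, ← Subgroup.zpowers_eq_closure]
  refine le_antisymm (fun g hg => ?_) (sup_le ?_ ?_)
  · have hg : Commute g V := Subgroup.mem_centralizer_singleton_iff.mp hg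
    obtain ⟨k, hk, hch⟩ := e.exists_reduce (F := F) (chain := chain) (tab := tab) hFN hchain hstep
      (fun x hx => (e.fixed_iff hv hfix x).2 g hg hx) (K := K)
      (fun x hx => hK ▸ Subgroup.subset_closure ⟨x, hx, rfl⟩)
      (fun k hk x hx => (e.fixed_iff hv hfix x).2 k (hKc k hk) hx) chain.length le_rfl
    rw [List.take_length] at hch
    have hkg : Commute (k * g) V := (hKc k hk).mul_left hg
    obtain ⟨h, hh, y, hy, e1, e2, e3⟩ := e.exists_ys hv hq hpow hb (ys := [b])
      (fun y hy => List.mem_singleton.mp hy ▸ hb)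
      (fun x hx => by
        have := ((e.fix_iff V ⟨x, hFN x hx⟩).mpr ((e.fixed_iff hv hfix ⟨x, hFN x hx⟩).1.mpr hx))
        exact (e.setup.rho_prodW hv ⟨x, hFN x hx⟩).symm.trans (congrArg Fin.val this))
      hFN hscan hkg (e.grow_fixed hidx hch)
    have hy' : (⟨b, hb⟩ : Fin C.N) = y := Fin.ext (List.mem_singleton.mp hy).symm
    rw [← hy'] at e1
    have h1 := e.eq_one hgrow htar (g := h⁻¹ * (k * g)) (fun x hx =>
      (List.mem_append.mp hx).elim (e2 x) (FixedList.shifts e.setup hv e3 hb e1 q x))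
    have eg : g = k⁻¹ * h := by
      rw [inv_mul_eq_one] at h1
      rw [h1, inv_mul_cancel_left]
    rw [eg]
    exact mul_mem (Subgroup.mem_sup_right (K.inv_mem hk)) (Subgroup.mem_sup_left hh)
  · intro k hk
    obtain ⟨j, rfl⟩ := Subgroup.mem_zpowers_iff.mp hk
    exact Subgroup.mem_centralizer_singleton_iff.mpr ((Commute.refl V).zpow_left j).eq
  · exact fun k hk => Subgroup.mem_centralizer_singleton_iff.mpr (hKc k hk).eq

end CfsgLib.TransCent
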