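import Mathlib

/-!
The normalizer of a cyclic group of prime order whose centralizer splits.
-/

set_option autoImplicit false
set_option linter.style.haveILetI false

open scoped Pointwise

namespace CfsgLib.TransCent

variable {G : Type*} [Group G]

/-- An element `u` acting on `⟨v⟩` with order `k` and centralizing `K` gives a subgroup of order
`p * k` meeting the centralizer of `⟨v⟩` in `⟨v⟩`. -/
theorem exists_frobenius_part [Finite G] {v u : G} {p k r : ℕ} [Fact p.Prime] (hv : orderOf v = p)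
    (hk0 : 0 < k) (hu : u * v * u⁻¹ = v ^ r) (huk : u ^ k ∈ Subgroup.zpowers v)
    (hr : ∀ i, 0 < i → i < k → r ^ i % p ≠ 1) {K : Subgroup G} (hK : ∀ y ∈ K, u * y = y * u)
    (hC : Subgroup.centralizer (Subgroup.zpowers v : Set G) = Subgroup.zpowers v ⊔ K)
    (hXK : Subgroup.zpowers v ⊓ K = ⊥) :
    ∃ F : Subgroup G, Nat.card F = p * k ∧ Subgroup.zpowers v ≤ F ∧
      F ⊓ Subgroup.centralizer (Subgroup.zpowers v : Set G) = Subgroup.zpowers v ∧
      F ⊓ K = ⊥ ∧ (∀ x ∈ F, ∀ y ∈ K, x * y = y * x) ∧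
      F ⊔ K ≤ Subgroup.normalizer (Subgroup.zpowers v : Set G) ∧
      ∀ g : G, (∃ i : ℕ, g * v * g⁻¹ = v ^ (r ^ i)) → g ∈ F ⊔ K := by
  set X := Subgroup.zpowers v
  have hpow : ∀ i : ℕ, u ^ i * v * (u ^ i)⁻¹ = v ^ (r ^ i) := by
    intro i
    induction i with
    | zero => simp
    | succ i ih =>
      calc u ^ (i + 1) * v * (u ^ (i + 1))⁻¹ = u * (u ^ i * v * (u ^ i)⁻¹) * u⁻¹ := by
            rw [pow_succ']; group
        _ = (u * v * u⁻¹) ^ (r ^ i) := by rw [ih, conj_pow]
        _ = v ^ (r ^ (i + 1)) := by rw [hu, ← pow_mul, ← pow_succ']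
  have hvK : ∀ y ∈ K, v * y = y * v := fun y hy => by
    have : y ∈ Subgroup.centralizer (X : Set G) := hC ▸ Subgroup.mem_sup_right hy
    exact Subgroup.mem_centralizer_iff.mp this v (Subgroup.mem_zpowers v)
  have hle : ∀ w : G, (∃ s : ℕ, w * v * w⁻¹ = v ^ s) → w ∈ Subgroup.normalizer (X : Set G) := by
    rintro w ⟨s, hs⟩
    have hmap : X.map (MulAut.conj w).toMonoidHom = X := by
      refine Subgroup.eq_of_le_of_card_ge ?_ (Subgroup.card_map_of_injective (MulAut.conj w).injective).ge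
      rw [MonoidHom.map_zpowers, Subgroup.zpowers_le]
      change w * v * w⁻¹ ∈ X
      rw [hs]
      exact pow_mem (Subgroup.mem_zpowers v) s
    rw [Subgroup.mem_normalizer_iff]
    intro y
    conv_rhs => rw [← hmap]
    exact (Subgroup.mem_map_iff_mem (f := (MulAut.conj w).toMonoidHom) (MulAut.conj w).injective).symm
  have hU : Subgroup.zpowers u ≤ Subgroup.normalizer (X : Set G) := by
    rw [Subgroup.zpowers_le]
    exact hle u ⟨r, hu⟩
  set F := Subgroup.zpowers u ⊔ X
  have hmem : ∀ x ∈ F, ∃ i < k, ∃ z ∈ X, x = u ^ i * z := by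
    intro x hx
    have : x ∈ (Subgroup.zpowers u : Set G) * (X : Set G) := by
      rw [← Subgroup.coe_mul_of_left_le_normalizer_right _ _ hU]; exact hx
    obtain ⟨w, hw, z, hz, rfl⟩ := Set.mem_mul.mp this
    obtain ⟨j, rfl⟩ := mem_powers_iff_mem_zpowers.mpr hw
    refine ⟨j % k, Nat.mod_lt _ hk0, (u ^ k) ^ (j / k) * z, X.mul_mem (pow_mem huk _) hz, ?_⟩
    rw [← mul_assoc, ← pow_mul, ← pow_add, Nat.mod_add_div]
  have hkey : ∀ i < k, ∀ z ∈ X, u ^ i * z ∈ Subgroup.centralizer (X : Set G) → i = 0 := by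
    intro i hi z hz hc
    by_contra h0
    refine hr i (Nat.pos_of_ne_zero h0) hi ?_
    have hcz : u ^ i * z * v = v * (u ^ i * z) :=
      (Subgroup.mem_centralizer_iff.mp hc v (Subgroup.mem_zpowers v)).symm
    obtain ⟨j, rfl⟩ := Subgroup.mem_zpowers_iff.mp hz
    have h1 : u ^ i * v * (u ^ i)⁻¹ = v := by
      calc u ^ i * v * (u ^ i)⁻¹ = u ^ i * v ^ j * v * (v ^ j)⁻¹ * (u ^ i)⁻¹ := by group
        _ = v := by rw [hcz]; group
    rw [hpow] at h1
    have h2 := pow_eq_pow_iff_modEq.mp (h1.trans (pow_one v).symm)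
    rw [hv] at h2
    exact (show r ^ i % p = 1 % p from h2).trans (Nat.mod_eq_of_lt (Fact.out : p.Prime).one_lt)
  have hcent : ∀ x ∈ F, ∀ y ∈ K, x * y = y * x := by
    intro x hx y hy
    have : F ≤ Subgroup.centralizer ({y} : Set G) := by
      refine sup_le ?_ ?_ <;> rw [Subgroup.zpowers_le, Subgroup.mem_centralizer_singleton_iff]
      · exact hK y hy
      · exact hvK y hy
    exact Subgroup.mem_centralizer_singleton_iff.mp (this hx)
  have hFC : F ⊓ Subgroup.centralizer (X : Set G) = X := by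
    refine le_antisymm ?_ (le_inf le_sup_right (hC ▸ le_sup_left))
    rintro x ⟨hx, hxc⟩
    obtain ⟨i, hi, z, hz, rfl⟩ := hmem x hx
    simpa [hkey i hi z hz hxc] using hz
  refine ⟨F, ?_, le_sup_right, hFC, ?_, hcent, ?_, ?_⟩
  · have hX : Nat.card X = p := by rw [Nat.card_zpowers, hv]
    let f : Fin k × X → F := fun q => ⟨u ^ (q.1 : ℕ) * q.2, F.mul_mem
      (pow_mem (Subgroup.mem_sup_left (Subgroup.mem_zpowers u)) _) (Subgroup.mem_sup_right q.2.2)⟩
    have hb : Function.Bijective f := by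
      refine ⟨?_, fun x => ?_⟩
      · have aux : ∀ i j : Fin k, (i : ℕ) ≤ j → ∀ z w : X, u ^ (i : ℕ) * z = u ^ (j : ℕ) * w → i = j := by
          intro i j hij z w h
          have h' : u ^ ((j : ℕ) - i) * w = z := by
            apply mul_left_cancel (a := u ^ (i : ℕ))
            rw [← mul_assoc, ← pow_add, Nat.add_sub_cancel' hij, h]
          have hc : u ^ ((j : ℕ) - i) * (w : G) ∈ Subgroup.centralizer (X : Set G) :=
            hC ▸ Subgroup.mem_sup_left (h' ▸ z.2)
          exact Fin.ext (by have := hkey _ (by omega) _ w.2 hc; omega)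
        rintro ⟨i, z⟩ ⟨j, w⟩ h
        have h := congrArg Subtype.val h
        obtain rfl : i = j := by
          rcases le_total (i : ℕ) j with hl | hl
          · exact aux i j hl z w h
          · exact (aux j i hl w z h.symm).symm
        exact Prod.ext rfl (Subtype.ext (mul_left_cancel h))
      · obtain ⟨i, hi, z, hz, e⟩ := hmem x x.2
        exact ⟨(⟨i, hi⟩, ⟨z, hz⟩), Subtype.ext e.symm⟩
    rw [← Nat.card_congr (Equiv.ofBijective f hb), Nat.card_prod, Nat.card_fin, hX, mul_comm]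
  · refine le_bot_iff.mp fun x hx => ?_
    rw [← hXK]
    exact ⟨hFC ▸ ⟨hx.1, hC ▸ Subgroup.mem_sup_right hx.2⟩, hx.2⟩
  · refine sup_le (sup_le hU Subgroup.le_normalizer) fun y hy => hle y ⟨1, ?_⟩
    rw [pow_one, ← hvK y hy, mul_inv_cancel_right]
  · rintro g ⟨i, hi⟩
    have hc : (u ^ i)⁻¹ * g ∈ Subgroup.centralizer (X : Set G) := by
      rw [show X = Subgroup.closure {v} from Subgroup.zpowers_eq_closure v,
        Subgroup.centralizer_closure, Subgroup.mem_centralizer_singleton_iff]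
      calc (u ^ i)⁻¹ * g * v = (u ^ i)⁻¹ * (g * v * g⁻¹) * g := by group
        _ = (u ^ i)⁻¹ * (u ^ i * v * (u ^ i)⁻¹) * g := by rw [hi, hpow]
        _ = v * ((u ^ i)⁻¹ * g) := by group
    rw [hC] at hc
    have hui : u ^ i ∈ F ⊔ K :=
      Subgroup.mem_sup_left (pow_mem (Subgroup.mem_sup_left (Subgroup.mem_zpowers u)) i)
    have := (F ⊔ K).mul_mem hui ((sup_le_sup_right (le_sup_right : X ≤ F) K) hc)
    simpa using this

end CfsgLib.TransCent
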