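import Cfsg.Agent.Lib.TransCent.Defs
import Cfsg.Agent.Lib.CosetEnum.OutBound

/-!
Centralizers from scans and derivations of fixed cosets.
-/

set_option autoImplicit false
set_option linter.style.haveILetI false

namespace CfsgLib.TransCent

open CfsgLib.CosetEnum

/-- A class of involutions `a` on the cosets of a subgroup centralizing `a`, with the word of `a`. -/
structure Env {G : Type*} [Group G] (C : Cert) (H : Subgroup G) (gen : ℕ → G)
    (ρ : G →* Equiv.Perm (Fin C.N)) (a : G) (m : ℕ) (zw : List ℕ) : Prop where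
  setup : Setup C H gen ρ
  rep : setup.RepWords
  graph : setup.ConjGraph a m
  zw_lt : ∀ g ∈ zw, g < C.K
  zw_eq : prodW gen zw = a
  inj : Function.Injective ρ

variable {G : Type*} [Group G] {C : Cert} {H : Subgroup G} {gen : ℕ → G}
  {ρ : G →* Equiv.Perm (Fin C.N)} {a : G} {m : ℕ} {zw : List ℕ}

theorem Env.dWord_spec (e : Env C H gen ρ a m zw) (x : Fin C.N) :
    (∀ g ∈ dWord C zw x, g < C.K) ∧ conjAt C gen a x = prodW gen (dWord C zw x) := by
  obtain ⟨h1, h2⟩ := e.setup.coreRep_eq e.rep x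
  constructor
  · intro g hg
    rcases List.mem_append.mp hg with hg | hg
    · simp only [Cert.revInv, List.mem_reverse, List.mem_map] at hg
      obtain ⟨g', hg', rfl⟩ := hg
      exact e.setup.complete.inv_lt (h1 g' hg')
    · exact (List.mem_append.mp hg).elim (e.zw_lt g) (h1 g)
  · unfold conjAt
    rw [h2, dWord, prodW_append, prodW_append, e.setup.model.revInv_eq, e.zw_eq, mul_assoc]

theorem Env.run_dWord (e : Env C H gen ρ a m zw) (x y : Fin C.N) :
    C.run y (C.revInv (dWord C zw x)) = (ρ (conjAt C gen a x) y : ℕ) := by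
  rw [(e.dWord_spec x).2, e.setup.rho_prodW (e.dWord_spec x).1]

theorem Env.fix_iff (e : Env C H gen ρ a m zw) (g : G) (x : Fin C.N) :
    ρ g x = x ↔ Commute g (conjAt C gen a x) := by
  have h := e.setup.conjAt_smul e.graph.comm g x
  constructor
  · intro hx
    rw [hx] at h
    exact mul_inv_eq_iff_eq_mul.mp h
  · intro hc
    rw [hc.eq, mul_inv_cancel_right] at h
    exact (e.graph.injective h).symm

/-- a list of cosets that are all fixed -/
def FixedList (ρ : G →* Equiv.Perm (Fin C.N)) (g : G) (l : List ℕ) : Prop :=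
  ∀ y ∈ l, ∃ z : Fin C.N, (z : ℕ) = y ∧ ρ g z = z

theorem nth_mem {l : List ℕ} {k : ℕ} (h : k < l.length) : nth l k 0 ∈ l := by
  rw [nth_eq, List.getD_eq_getElem _ _ h]
  exact List.getElem_mem h

/-- A property of cosets kept by conjugation holds on all derived cosets. -/
theorem Env.grow_induction (e : Env C H gen ρ a m zw) {P : Fin C.N → Prop}
    (hP : ∀ x y, P x → P y → P (ρ (conjAt C gen a x) y)) :
    ∀ (st : List (ℕ × ℕ)) (known : List ℕ), idxOK st known.length = true →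
      (∀ y ∈ known, ∃ z : Fin C.N, (z : ℕ) = y ∧ P z) →
      ∀ y ∈ grow C zw st known, ∃ z : Fin C.N, (z : ℕ) = y ∧ P z
  | [], _, _, h => h
  | (i, j) :: st, known, hi, h => by
    simp only [idxOK, Bool.and_eq_true, Nat.blt_eq] at hi
    obtain ⟨⟨hil, hjl⟩, hrest⟩ := hi
    obtain ⟨x, ex, hx⟩ := h _ (nth_mem hil)
    obtain ⟨y, ey, hy⟩ := h _ (nth_mem hjl)
    rw [show grow C zw ((i, j) :: st) known = grow C zw st
      (known ++ [C.run (nth known j 0) (C.revInv (dWord C zw (nth known i 0)))]) from rfl]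
    refine e.grow_induction hP st _ (by simpa using hrest) fun w hw => ?_
    rcases List.mem_append.mp hw with hw | hw
    · exact h w hw
    · exact ⟨_, by rw [List.mem_singleton.mp hw, ← ex, ← ey, e.run_dWord], hP x y hx hy⟩

theorem Env.fixed_conj (e : Env C H gen ρ a m zw) {g : G} (x y : Fin C.N) (hx : ρ g x = x)
    (hy : ρ g y = y) : ρ g (ρ (conjAt C gen a x) y) = ρ (conjAt C gen a x) y := by
  rw [← Equiv.Perm.mul_apply, ← map_mul, ((e.fix_iff g x).mp hx).eq, map_mul,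
    Equiv.Perm.mul_apply, hy]

theorem Env.grow_fixed (e : Env C H gen ρ a m zw) {g : G} {st : List (ℕ × ℕ)} {known : List ℕ}
    (hi : idxOK st known.length = true) (h : FixedList ρ g known) :
    FixedList ρ g (grow C zw st known) :=
  e.grow_induction (P := fun z => ρ g z = z) (fun x y hx hy => e.fixed_conj x y hx hy) st known hi h

/-- An element fixing cosets from which the cosets of all letters are derived is trivial. -/
theorem Env.eq_one (e : Env C H gen ρ a m zw) {g : G} {targets known : List ℕ}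
    {st : List (ℕ × ℕ)} (hgrow : growOK C zw targets known st = true)
    (htar : ∀ k < C.K, ∃ x : Fin C.N, (x : ℕ) ∈ targets ∧ conjAt C gen a x = gen k)
    (h : FixedList ρ g known) : g = 1 := by
  simp only [growOK, Bool.and_eq_true, List.all_eq_true, List.any_eq_true] at hgrow
  obtain ⟨⟨hidx, -⟩, htg⟩ := hgrow
  have hgen : ∀ k < C.K, Commute g (gen k) := by
    intro k hk
    obtain ⟨x, hx, ex⟩ := htar k hk
    obtain ⟨y, hy, hxy⟩ := htg _ hx
    obtain ⟨z, ez, hz⟩ := e.grow_fixed hidx h y hy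
    have : z = x := Fin.ext (ez.trans (Nat.eq_of_beq_eq_true hxy).symm)
    rw [← ex, ← this]
    exact (e.fix_iff g z).mp hz
  have hall : ∀ y : G, Commute g y := by
    intro y
    have hy : y ∈ Subgroup.centralizer ({g} : Set G) := by
      refine ((Subgroup.closure_le _).mpr ?_) (e.setup.gen_top ▸ Subgroup.mem_top y)
      rintro b ⟨k, hk, rfl⟩
      exact Subgroup.mem_centralizer_singleton_iff.mpr (hgen k hk).symm.eq
    exact (Subgroup.mem_centralizer_singleton_iff.mp hy).symm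
  apply e.inj
  rw [map_one]
  exact Equiv.ext fun z => (e.fix_iff g z).mpr (hall _)

theorem minOK_of (s : Setup C H gen ρ) {v : List ℕ} (hv : ∀ g ∈ v, g < C.K) {x : ℕ} :
    ∀ (fuel : ℕ) (z : Fin C.N), (∀ k : ℕ, x ≤ (ρ (prodW gen v ^ k) z : ℕ)) →
      minOK C v x fuel z = true
  | 0, _, _ => rfl
  | fuel + 1, z, h => by
    have e : minOK C v x (fuel + 1) z =
        pick (ltB (C.run z (C.revInv v)) x) false (minOK C v x fuel (C.run z (C.revInv v))) := by
      unfold minOK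
      simp only [strict_eq]
    rw [e, ← s.rho_prodW hv, show ltB (ρ (prodW gen v) z : ℕ) x = false by
      rw [Bool.eq_false_iff, Ne, ltB_iff]
      have := h 1
      rw [pow_one] at this
      omega, pick_false]
    refine minOK_of s hv fuel _ fun k => ?_
    rw [← Equiv.Perm.mul_apply, ← map_mul, ← pow_succ]
    exact h (k + 1)

/-- An element commuting with `v`, with the prescribed images of some fixed cosets of `v`, takes `b`
into one of the listed orbits. -/
theorem Env.scan_spec (e : Env C H gen ρ a m zw) {v : List ℕ} (hv : ∀ g ∈ v, g < C.K) {q n b : ℕ}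
    (hq : 0 < q) (hpow : prodW gen v ^ q = 1) (hb : b < C.N) {d : List (ℕ × ℕ)} {ys : List ℕ}
    (hys : ∀ y ∈ ys, y < C.N) (hd : ∀ p ∈ d, C.run p.2 (C.revInv v) = p.2)
    (hscan : ∀ x < C.N, scanOK C m v q n b d ys x = true) {g : G} (hg : Commute g (prodW gen v))
    (hgd : ∀ p ∈ d, ∃ z : Fin C.N, (z : ℕ) = p.1 ∧ (ρ g z : ℕ) = p.2) :
    ∃ h ∈ Subgroup.zpowers (prodW gen v), ∃ y : Fin C.N, (y : ℕ) ∈ ys ∧ ρ g ⟨b, hb⟩ = ρ h y := by
  set V := prodW gen v
  have hne : (Finset.range q).Nonempty := ⟨0, Finset.mem_range.mpr hq⟩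
  obtain ⟨i, -, hmin⟩ := Finset.exists_min_image (Finset.range q)
    (fun k => (ρ (V ^ k) (ρ g ⟨b, hb⟩) : ℕ)) hne
  set g₁ := V ^ i * g
  have hc₁ : Commute g₁ V := ((Commute.refl V).pow_left i).mul_left hg
  have hle : ∀ k : ℕ, (ρ g₁ ⟨b, hb⟩ : ℕ) ≤ (ρ (V ^ k) (ρ g₁ ⟨b, hb⟩) : ℕ) := fun k => by
    have h := hmin ((k + i) % q) (Finset.mem_range.mpr (Nat.mod_lt _ hq))
    rw [← pow_eq_pow_mod _ hpow] at h
    simpa only [g₁, map_mul, Equiv.Perm.mul_apply, pow_add] using h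
  have hd₁ : ∀ p ∈ d, ∃ z : Fin C.N, (z : ℕ) = p.1 ∧ (ρ g₁ z : ℕ) = p.2 := by
    intro p hp
    obtain ⟨z, ez, hz⟩ := hgd p hp
    refine ⟨z, ez, ?_⟩
    have hfix : ρ V (ρ g z) = ρ g z := Fin.ext (by
      rw [e.setup.rho_prodW hv, hz]; exact hd p hp)
    have : ∀ k : ℕ, ρ (V ^ k) (ρ g z) = ρ g z := fun k => by
      induction k with
      | zero => simp
      | succ k ih => rw [pow_succ, map_mul, Equiv.Perm.mul_apply, hfix, ih]
    simp only [g₁, map_mul, Equiv.Perm.mul_apply, this i, hz]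
  have hs := hscan (ρ g₁ ⟨b, hb⟩ : ℕ) (Fin.isLt _)
  unfold scanOK at hs
  simp only [strict_eq] at hs
  rw [minOK_of e.setup hv _ _ hle, pick_true,
    band_eq_true.mpr ⟨e.setup.pairsOK_of e.rep e.graph.inv hd₁ ⟨b, hb⟩,
      e.setup.shiftOK_of e.rep e.graph.inv hv hc₁ n ⟨b, hb⟩⟩, pick_true, List.any_eq_true] at hs
  obtain ⟨x, hx, hxy⟩ := hs
  obtain ⟨y, hy, hx⟩ := List.mem_flatMap.mp hx
  obtain ⟨j, -, rfl⟩ := List.mem_map.mp hx
  refine ⟨(V ^ i)⁻¹ * V ^ j, mul_mem (inv_mem (pow_mem (Subgroup.mem_zpowers _) i))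
    (pow_mem (Subgroup.mem_zpowers _) j), ⟨y, hys y hy⟩, hy, ?_⟩
  have h1 : ρ g₁ ⟨b, hb⟩ = ρ (V ^ j) ⟨y, hys y hy⟩ :=
    Fin.ext ((Nat.eq_of_beq_eq_true hxy).trans (e.setup.shift_eq hv j ⟨y, hys y hy⟩).symm)
  rw [map_mul, Equiv.Perm.mul_apply, ← h1, ← Equiv.Perm.mul_apply, ← map_mul]
  simp [g₁]

/-- Only powers of `v` times elements taking `b` to a listed coset commute with `v` and fix the
listed cosets. -/
theorem Env.exists_ys (e : Env C H gen ρ a m zw) {v : List ℕ} (hv : ∀ g ∈ v, g < C.K) {q n b : ℕ}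
    (hq : 0 < q) (hpow : prodW gen v ^ q = 1) (hb : b < C.N) {F : List ℕ} {ys : List ℕ}
    (hys : ∀ y ∈ ys, y < C.N) (hF : ∀ x ∈ F, C.run x (C.revInv v) = x) (hFN : ∀ x ∈ F, x < C.N)
    (hscan : ∀ x < C.N, scanOK C m v q n b (F.map fun x => (x, x)) ys x = true) {g : G}
    (hg : Commute g (prodW gen v)) (hgF : FixedList ρ g F) :
    ∃ h ∈ Subgroup.zpowers (prodW gen v), ∃ y : Fin C.N, (y : ℕ) ∈ ys ∧
      ρ (h⁻¹ * g) ⟨b, hb⟩ = y ∧ FixedList ρ (h⁻¹ * g) F ∧ Commute (h⁻¹ * g) (prodW gen v) := by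
  obtain ⟨h, hh, y, hy, e1⟩ := e.scan_spec hv hq hpow hb hys
    (by
      intro p hp
      obtain ⟨x, hx, rfl⟩ := List.mem_map.mp hp
      exact hF x hx) hscan hg
    (by
      intro p hp
      obtain ⟨x, hx, rfl⟩ := List.mem_map.mp hp
      obtain ⟨z, ez, hz⟩ := hgF x hx
      exact ⟨z, ez, by rw [hz, ez]⟩)
  have hcomm : Commute h (prodW gen v) := by
    obtain ⟨k, rfl⟩ := Subgroup.mem_zpowers_iff.mp hh
    exact (Commute.refl _).zpow_left k
  refine ⟨h, hh, y, hy, by simp [e1], fun x hx => ⟨⟨x, hFN x hx⟩, rfl, ?_⟩,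
    hcomm.inv_left.mul_left hg⟩
  obtain ⟨z, ez, hz⟩ := hgF x hx
  have hzx : z = ⟨x, hFN x hx⟩ := Fin.ext ez
  rw [map_mul, Equiv.Perm.mul_apply, ← hzx, hz, map_inv, Equiv.Perm.inv_eq_iff_eq]
  have hfix : Commute (prodW gen v) (conjAt C gen a z) := (e.fix_iff _ z).mp (Fin.ext (by
    rw [e.setup.rho_prodW hv, ez]; exact hF x hx))
  obtain ⟨k, rfl⟩ := Subgroup.mem_zpowers_iff.mp hh
  exact ((e.fix_iff _ z).mpr (hfix.zpow_left k)).symm

theorem FixedList.shifts {g : G} (s : Setup C H gen ρ) {v : List ℕ} (hv : ∀ g ∈ v, g < C.K)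
    (hg : Commute g (prodW gen v)) {b : ℕ} (hb : b < C.N) (hgb : ρ g ⟨b, hb⟩ = ⟨b, hb⟩) (q : ℕ) :
    FixedList ρ g (C.shifts v q b) := by
  intro y hy
  obtain ⟨k, -, rfl⟩ := List.mem_map.mp hy
  refine ⟨ρ (prodW gen v ^ k) ⟨b, hb⟩, s.shift_eq hv k _, ?_⟩
  rw [← Equiv.Perm.mul_apply, ← map_mul, (hg.pow_right k).eq, map_mul, Equiv.Perm.mul_apply, hgb]

end CfsgLib.TransCent
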